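import Mathlib

/-!
Inequalities between geometric sums.
-/

set_option autoImplicit false

namespace Cfsg.Agent.MaxOrdPSL

open Finset

/-- `1 + q + ⋯ + q^(n-1)`. -/
def S (q n : ℕ) : ℕ := ∑ i ∈ range n, q ^ i

lemma S_succ (q n : ℕ) : S q (n + 1) = S q n + q ^ n := sum_range_succ _ _

lemma S_mul (q n : ℕ) (hq : 1 ≤ q) : (q - 1) * S q n = q ^ n - 1 := by
  induction n with
  | zero => simp [S]
  | succ n ih =>
    rw [S_succ, mul_add, ih, pow_succ]
    have h1 : 1 ≤ q ^ n := Nat.one_le_pow _ _ hq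
    obtain ⟨r, rfl⟩ : ∃ r, q = r + 1 := ⟨q - 1, by omega⟩
    simp only [Nat.add_sub_cancel]
    have : (r + 1) ^ n * (r + 1) = r * (r + 1) ^ n + (r + 1) ^ n := by ring
    omega

lemma le_S_of_mul {q n N : ℕ} (hq : 2 ≤ q) (h : (q - 1) * N ≤ q ^ n - 1) : N ≤ S q n := by
  rw [← S_mul q n (by omega)] at h
  exact Nat.le_of_mul_le_mul_left h (by omega)

lemma le_pow_pred {q e : ℕ} (hq : 2 ≤ q) (he : 1 ≤ e) : e ≤ q ^ (e - 1) :=
  le_trans (by have := Nat.lt_two_pow_self (n := e - 1); omega) (Nat.pow_le_pow_left hq _)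

lemma semilinear_ineq {q₀ e n : ℕ} (hq : 2 ≤ q₀) (he : 1 ≤ e) (hn : 2 ≤ n)
    (hex : n = 2 → q₀ ^ e ≠ 4) : e * S q₀ n ≤ S (q₀ ^ e) n := by
  have step : ∀ m, 1 ≤ m → e * S q₀ m ≤ S (q₀ ^ e) m → e * S q₀ (m + 1) ≤ S (q₀ ^ e) (m + 1) := by
    intro m hm h
    rw [S_succ, S_succ, mul_add]
    refine Nat.add_le_add h ?_
    calc e * q₀ ^ m ≤ q₀ ^ (e - 1) * q₀ ^ m := Nat.mul_le_mul_right _ (le_pow_pred hq he)
      _ ≤ (q₀ ^ e) ^ m := by
        rw [← pow_add, ← pow_mul]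
        refine Nat.pow_le_pow_right (by omega) ?_
        obtain ⟨d, rfl⟩ : ∃ d, e = d + 1 := ⟨e - 1, by omega⟩
        rw [Nat.add_sub_cancel, Nat.succ_mul]
        exact Nat.add_le_add_right (Nat.le_mul_of_pos_right _ (by omega)) _
  have base2 : q₀ ^ e ≠ 4 → e * S q₀ 2 ≤ S (q₀ ^ e) 2 := by
    intro h4
    simp only [S, sum_range_succ, sum_range_zero, pow_zero, pow_one, zero_add]
    rcases Nat.lt_or_ge e 3 with h3 | h3
    · interval_cases e
      · simp
      · have : q₀ ≠ 2 := by rintro rfl; simp at h4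
        have : 3 ≤ q₀ := by omega
        nlinarith
    · clear h4 step hex
      induction e, h3 using Nat.le_induction with
      | base => nlinarith [Nat.mul_le_mul hq hq, pow_succ q₀ 2, pow_two q₀]
      | succ m hm ih =>
        have ih := ih (by omega)
        have h1 : q₀ ^ m * 2 ≤ q₀ ^ (m + 1) := by rw [pow_succ]; exact Nat.mul_le_mul_left _ hq
        have h2 : q₀ + 1 ≤ q₀ ^ m := by
          have : q₀ ^ 2 ≤ q₀ ^ m := Nat.pow_le_pow_right (by omega) (by omega)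
          nlinarith
        nlinarith
  by_cases h4 : q₀ ^ e = 4
  · have hn3 : 3 ≤ n := by
      by_contra h
      exact hex (by omega) h4
    induction n, hn3 using Nat.le_induction with
    | base =>
      have h22 : (q₀ = 2 ∧ e = 2) ∨ (q₀ = 4 ∧ e = 1) := by
        have h1 : e ≤ 2 := by
          by_contra h
          have : q₀ ^ 3 ≤ q₀ ^ e := Nat.pow_le_pow_right (by omega) (by omega)
          have : 2 ^ 3 ≤ q₀ ^ 3 := Nat.pow_le_pow_left hq 3
          omega
        interval_cases e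
        · right; simpa using h4
        · left; exact ⟨by nlinarith, rfl⟩
      rcases h22 with ⟨rfl, rfl⟩ | ⟨rfl, rfl⟩ <;> simp [S, sum_range_succ]
    | succ m hm ih => exact step m (by omega) (ih (by omega) (by omega))
  · clear hex
    induction n, hn using Nat.le_induction with
    | base => exact base2 h4
    | succ m hm ih => exact step m (by omega) ih

lemma graph_ineq {q₀ e n : ℕ} (hq : 2 ≤ q₀) (he : 2 ≤ e) (hn : 3 ≤ n)
    (hex : e = 2 → q₀ ≠ 2) : 2 * e * S q₀ n ≤ S (q₀ ^ e) n := by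
  have key : 4 * e ≤ q₀ ^ (2 * e - 2) := by
    rcases he.lt_or_eq with h3 | h2
    · refine le_trans ?_ (Nat.pow_le_pow_left hq _)
      clear hex
      induction e, h3 using Nat.le_induction with
      | base => norm_num
      | succ m hm ih =>
        have ih := ih (by omega)
        rw [show 2 * (m + 1) - 2 = 2 * m - 2 + 2 by omega, pow_add]
        omega
    · subst h2
      have h3 : 3 ≤ q₀ := by have := hex rfl; omega
      have := Nat.pow_le_pow_left h3 (2 * 2 - 2)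
      norm_num at this ⊢
      omega
  induction n, hn using Nat.le_induction with
  | base =>
    have h1 : 2 * e * (1 + q₀ + q₀ ^ 2) ≤ 4 * e * q₀ ^ 2 := by
      have : 1 + q₀ + q₀ ^ 2 ≤ 2 * q₀ ^ 2 := by nlinarith
      calc 2 * e * (1 + q₀ + q₀ ^ 2) ≤ 2 * e * (2 * q₀ ^ 2) := Nat.mul_le_mul_left _ this
        _ = 4 * e * q₀ ^ 2 := by ring
    have h2 : 4 * e * q₀ ^ 2 ≤ (q₀ ^ e) ^ 2 := by
      rw [← pow_mul, show e * 2 = 2 * e - 2 + 2 by omega, pow_add]
      exact Nat.mul_le_mul_right _ key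
    simp only [S, sum_range_succ, sum_range_zero, pow_zero, pow_one, zero_add]
    omega
  | succ m hm ih =>
    rw [S_succ, S_succ, mul_add]
    refine Nat.add_le_add ih ?_
    calc 2 * e * q₀ ^ m ≤ q₀ ^ (2 * e - 2) * q₀ ^ m := Nat.mul_le_mul_right _ (by omega)
      _ ≤ (q₀ ^ e) ^ m := by
        rw [← pow_add, ← pow_mul]
        refine Nat.pow_le_pow_right (by omega) ?_
        obtain ⟨d, rfl⟩ : ∃ d, e = d + 1 := ⟨e - 1, by omega⟩
        have : 2 * d ≤ d * m := by rw [mul_comm 2]; exact Nat.mul_le_mul_left _ (by omega)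
        rw [show 2 * (d + 1) - 2 = 2 * d by omega, show (d + 1) * m = d * m + m by ring]
        omega

lemma quad_ineq {q n : ℕ} (hq : 2 ≤ q) (hn : 3 ≤ n) : 2 * (q + 1) ≤ S q n := by
  induction n, hn using Nat.le_induction with
  | base =>
    simp only [S, sum_range_succ, sum_range_zero, pow_zero, pow_one, zero_add]
    nlinarith
  | succ m hm ih => rw [S_succ]; omega

lemma roots_ineq {q : ℕ} (hq : 3 ≤ q) : 2 * (q - 1) ^ (q - 2) ≤ q ^ (q - 3) * (q + 1) := by
  obtain ⟨b, rfl⟩ : ∃ b, q = b + 3 := ⟨q - 3, by omega⟩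
  simp only [show b + 3 - 1 = b + 2 by omega, show b + 3 - 2 = b + 1 by omega, show b + 3 - 3 = b by omega]
  have bern : ∀ m, (b + 2) ^ m * (b + 2 + m) ≤ (b + 3) ^ m * (b + 2) := by
    intro m
    induction m with
    | zero => simp
    | succ m ih =>
      rw [pow_succ, pow_succ]
      calc (b + 2) ^ m * (b + 2) * (b + 2 + (m + 1))
          ≤ (b + 2) ^ m * (b + 2 + m) * (b + 3) := by
            rw [mul_assoc, mul_assoc]
            refine Nat.mul_le_mul_left _ ?_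
            nlinarith
        _ ≤ (b + 3) ^ m * (b + 2) * (b + 3) := Nat.mul_le_mul_right _ ih
        _ = (b + 3) ^ m * (b + 3) * (b + 2) := by ring
  have h1 := Nat.mul_le_mul_right (b + 4) (bern b)
  have h2 : 2 * (b + 2) * (b + 2) ≤ (b + 2 + b) * (b + 4) := by nlinarith
  refine Nat.le_of_mul_le_mul_right ?_ (show 0 < b + 2 by omega)
  calc 2 * (b + 2) ^ (b + 1) * (b + 2) = (b + 2) ^ b * (2 * (b + 2) * (b + 2)) := by ring
    _ ≤ (b + 2) ^ b * ((b + 2 + b) * (b + 4)) := Nat.mul_le_mul_left _ h2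
    _ = (b + 2) ^ b * (b + 2 + b) * (b + 4) := by ring
    _ ≤ (b + 3) ^ b * (b + 2) * (b + 4) := h1
    _ = (b + 3) ^ b * (b + 3 + 1) * (b + 2) := by ring

lemma S_lower {q n : ℕ} (hn : 2 ≤ n) : q ^ (n - 1) + q ^ (n - 2) ≤ S q n := by
  obtain ⟨m, rfl⟩ : ∃ m, n = m + 2 := ⟨n - 2, by omega⟩
  rw [S_succ, S_succ]
  simp
  omega

lemma roots_bound {q n : ℕ} (hq : 3 ≤ q) (hn : 2 ≤ n) (hk : q - 1 ≤ n) :
    2 * (q ^ (n - (q - 1)) * (q - 1) ^ (q - 2)) ≤ S q n := by
  refine le_trans ?_ (S_lower hn)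
  calc 2 * (q ^ (n - (q - 1)) * (q - 1) ^ (q - 2)) = q ^ (n - (q - 1)) * (2 * (q - 1) ^ (q - 2)) := by ring
    _ ≤ q ^ (n - (q - 1)) * (q ^ (q - 3) * (q + 1)) := Nat.mul_le_mul_left _ (roots_ineq hq)
    _ = q ^ (n - 1) + q ^ (n - 2) := by
      rw [← mul_assoc, ← pow_add, show n - (q - 1) + (q - 3) = n - 2 by omega, mul_add, mul_one, ← pow_succ,
        show n - 2 + 1 = n - 1 by omega]

end Cfsg.Agent.MaxOrdPSL
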