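import Mathlib

/-!
Powers of an invertible matrix that are scalar: counting in the algebra it generates.
-/

set_option autoImplicit false
noncomputable section

namespace Cfsg.Agent.MaxOrdPSL

open Polynomial Finset
open scoped Classical

variable {F : Type*} [Field F] {n : ℕ} {K : Type*} [Field K] [Algebra K F]

local notation "Mn" => Matrix (Fin n) (Fin n) F

/-- The polynomial with given coefficients. -/
def polyOf {k : ℕ} (a : Fin k → K) : K[X] := ∑ i : Fin k, C (a i) * X ^ (i : ℕ)

lemma natDegree_polyOf {k : ℕ} (a : Fin k → K) : (polyOf a).degree < k := by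
  refine (degree_sum_le _ _).trans_lt ((Finset.sup_lt_iff (WithBot.bot_lt_coe k)).2 fun i _ => ?_)
  exact (degree_C_mul_X_pow_le _ _).trans_lt (WithBot.coe_lt_coe.2 i.2)

lemma coeff_polyOf {k : ℕ} (a : Fin k → K) (i : Fin k) : (polyOf a).coeff i = a i := by
  simp [polyOf, coeff_C_mul_X_pow, Fin.val_inj]

/-- The invertible matrices that are polynomials over `K` in `x`. -/
def InAlg (K : Type*) [Field K] [Algebra K F] (x : Mn) (v : GL (Fin n) F) : Prop :=
  ∃ P : K[X], aeval x P = (v : Mn)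

lemma exists_coeffs {x : Mn} {P : K[X]} (hP : P ≠ 0) {k : ℕ} (hk : P.natDegree ≤ k) (h0 : aeval x P = 0)
    (R : K[X]) : ∃ a : Fin k → K, aeval x (polyOf a) = aeval x R := by
  obtain ⟨S, hS⟩ : ∃ S, R % P = S := ⟨_, rfl⟩
  have hdeg : S.degree < k := by
    rw [← hS]
    exact (EuclideanDomain.mod_lt R hP).trans_le (degree_le_of_natDegree_le hk)
  refine ⟨fun i => S.coeff i, ?_⟩
  have e : polyOf (fun i : Fin k => S.coeff i) = S := by
    ext j
    by_cases hj : j < k
    · exact coeff_polyOf (fun i : Fin k => S.coeff i) ⟨j, hj⟩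
    · rw [coeff_eq_zero_of_degree_lt ((natDegree_polyOf (fun i : Fin k => S.coeff i)).trans_le (WithBot.coe_le_coe.2 (not_lt.1 hj))),
        coeff_eq_zero_of_degree_lt (hdeg.trans_le (WithBot.coe_le_coe.2 (not_lt.1 hj)))]
  rw [e, ← hS]
  conv_rhs => rw [← EuclideanDomain.div_add_mod R P]
  rw [map_add, map_mul, h0, zero_mul, zero_add]

variable [Fintype K]

lemma card_inAlg_le [Finite F] (x : Mn) {P : K[X]} (hP : P ≠ 0) {k : ℕ} (hk : P.natDegree ≤ k)
    (h0 : aeval x P = 0) (hn : 0 < n) :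
    Nat.card {v : GL (Fin n) F // InAlg K x v} ≤ Fintype.card K ^ k - 1 := by
  haveI : Nonempty (Fin n) := ⟨⟨0, hn⟩⟩
  have hc : Nat.card {a : Fin k → K // a ≠ 0} = Fintype.card K ^ k - 1 := by
    rw [Nat.card_eq_fintype_card, Fintype.card_subtype_compl, Fintype.card_subtype_eq, Fintype.card_fun,
      Fintype.card_fin]
  rw [← hc]
  choose g hg using fun R => exists_coeffs hP hk h0 R
  refine Nat.card_le_card_of_injective
    (fun v => ⟨g v.2.choose, fun e => ?_⟩) fun v w e => ?_
  · have h := hg v.2.choose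
    rw [e, v.2.choose_spec] at h
    simp [polyOf] at h
    exact v.1.ne_zero h.symm
  · have e' := congrArg (fun a => aeval x (polyOf a.1)) e
    simp only [hg, v.2.choose_spec, w.2.choose_spec] at e'
    exact Subtype.ext (Units.ext e')

/-- Counting with powers up to the first scalar one. -/
theorem exists_pow_scalar [Finite F] (h : GL (Fin n) F) (hn : 0 < n) :
    ∃ N, 0 < N ∧ (∃ c : K, ((h ^ N : GL (Fin n) F) : Mn) = algebraMap K Mn c) ∧
      (Fintype.card K - 1) * N ≤ Nat.card {v : GL (Fin n) F // InAlg K (h : Mn) v} ∧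
      ∀ v₀ : GL (Fin n) F, InAlg K (h : Mn) v₀ →
        (∀ (i : ℕ) (c : K), (v₀ : Mn) ≠ algebraMap K Mn c * (h : Mn) ^ i) →
        2 * ((Fintype.card K - 1) * N) ≤ Nat.card {v : GL (Fin n) F // InAlg K (h : Mn) v} := by
  haveI : Nonempty (Fin n) := ⟨⟨0, hn⟩⟩
  have hex : ∃ N, 0 < N ∧ ∃ c : K, ((h ^ N : GL (Fin n) F) : Mn) = algebraMap K Mn c :=
    ⟨orderOf h, orderOf_pos h, 1, by rw [pow_orderOf_eq_one, map_one, Units.val_one]⟩
  refine ⟨Nat.find hex, (Nat.find_spec hex).1, (Nat.find_spec hex).2, ?_⟩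
  set N := Nat.find hex
  have hmin : ∀ i, i < N → 0 < i → ∀ c : K, ((h ^ i : GL (Fin n) F) : Mn) ≠ algebraMap K Mn c :=
    fun i hi hi0 c e => Nat.find_min hex hi ⟨hi0, c, e⟩
  let ι : Kˣ →* GL (Fin n) F := Units.map (algebraMap K Mn).toMonoidHom
  have hι : ∀ c : Kˣ, ((ι c : GL (Fin n) F) : Mn) = algebraMap K Mn (c : K) := fun c => rfl
  have hmem : ∀ (c : Kˣ) (i : ℕ), InAlg K (h : Mn) (ι c * h ^ i) := fun c i =>
    ⟨C (c : K) * X ^ i, by rw [map_mul, aeval_C, map_pow, aeval_X, Units.val_mul, hι, Units.val_pow_eq_pow_val]⟩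
  have hinj : ∀ (c c' : Kˣ) (i j : ℕ), i < N → j < N → ι c * h ^ i = ι c' * h ^ j → i = j ∧ c = c' := by
    intro c c' i j hi hj e
    wlog hij : i ≤ j generalizing c c' i j
    · exact (this c' c j i hj hi e.symm (le_of_not_ge hij)).imp Eq.symm Eq.symm
    have e2 : h ^ (j - i) = ι (c'⁻¹ * c) := by
      obtain ⟨t, rfl⟩ := Nat.exists_eq_add_of_le hij
      rw [show i + t = t + i by ring, pow_add, ← mul_assoc] at e
      rw [show i + t - i = t by omega, map_mul, map_inv, eq_inv_mul_iff_mul_eq]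
      exact (mul_right_cancel e).symm
    rcases Nat.eq_zero_or_pos (j - i) with h0 | h0
    · have : i = j := by omega
      subst this
      refine ⟨rfl, ?_⟩
      rw [h0, pow_zero] at e2
      have h1 := congrArg Units.val e2
      rw [hι, Units.val_one, ← map_one (algebraMap K Mn)] at h1
      have h2 := (algebraMap K Mn).injective h1
      exact (inv_mul_eq_one.1 (Units.ext h2.symm)).symm
    · exact absurd (by rw [e2, hι]) (hmin _ (by omega) h0 ((c'⁻¹ * c : Kˣ) : K))
  have hcard : Nat.card (Kˣ × Fin N) = (Fintype.card K - 1) * N := by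
    rw [Nat.card_prod, Nat.card_units, Nat.card_eq_fintype_card, Nat.card_fin]
  constructor
  · rw [← hcard]
    refine Nat.card_le_card_of_injective (fun z => ⟨ι z.1 * h ^ (z.2 : ℕ), hmem _ _⟩) fun z w e => ?_
    obtain ⟨e1, e2⟩ := hinj _ _ _ _ z.2.2 w.2.2 (congrArg Subtype.val e)
    exact Prod.ext e2 (Fin.ext e1)
  · intro v₀ ⟨P₀, hP₀⟩ hv₀
    have hc2 : Nat.card (Bool × (Kˣ × Fin N)) = 2 * ((Fintype.card K - 1) * N) := by
      rw [Nat.card_prod, hcard]; simp
    rw [← hc2]
    refine Nat.card_le_card_of_injective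
      (fun z => ⟨(if z.1 then v₀ else 1) * (ι z.2.1 * h ^ (z.2.2 : ℕ)), ?_⟩) ?_
    · obtain ⟨Q, hQ⟩ := hmem z.2.1 z.2.2
      split_ifs
      · exact ⟨P₀ * Q, by rw [map_mul, hP₀, hQ, Units.val_mul v₀]⟩
      · exact ⟨Q, by rw [one_mul, hQ]⟩
    · have hout : ∀ (c c' : Kˣ) (i j : ℕ), v₀ * (ι c * h ^ i) ≠ ι c' * h ^ j := by
        intro c c' i j e
        obtain ⟨t, ht⟩ : ∃ t, i + t = orderOf h * (i + 1) :=
          ⟨orderOf h * (i + 1) - i, by have := orderOf_pos h; have : i + 1 ≤ orderOf h * (i + 1) := Nat.le_mul_of_pos_left _ this; omega⟩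
        have hi : h ^ i * h ^ t = 1 := by rw [← pow_add, ht, pow_mul, pow_orderOf_eq_one, one_pow]
        have hcom : ∀ (d : Kˣ) (m : ℕ), h ^ m * ι d = ι d * h ^ m := fun d m => Units.ext (by
          rw [Units.val_mul, Units.val_mul, hι]; exact (Algebra.commutes (d : K) _).symm)
        have e' : v₀ = ι (c' * c⁻¹) * h ^ (j + t) := by
          calc v₀ = v₀ * (ι c * h ^ i) * (h ^ t * ι c⁻¹) := by
                rw [mul_assoc, mul_assoc (ι c), ← mul_assoc (h ^ i), hi, one_mul, ← map_mul, mul_inv_cancel,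
                  map_one, mul_one]
            _ = ι c' * h ^ j * (h ^ t * ι c⁻¹) := by rw [e]
            _ = ι (c' * c⁻¹) * h ^ (j + t) := by
                rw [mul_assoc, ← mul_assoc (h ^ j), ← pow_add, hcom, ← mul_assoc, map_mul]
        exact hv₀ _ _ (by rw [e', Units.val_mul, hι, Units.val_pow_eq_pow_val])
      rintro ⟨b, z⟩ ⟨b', w⟩ e
      have e := congrArg Subtype.val e
      cases b <;> cases b' <;> simp only [if_true, Bool.false_eq_true, if_false, one_mul] at e
      · obtain ⟨e1, e2⟩ := hinj _ _ _ _ z.2.2 w.2.2 e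
        exact Prod.ext rfl (Prod.ext e2 (Fin.ext e1))
      · exact absurd e.symm (hout _ _ _ _)
      · exact absurd e (hout _ _ _ _)
      · obtain ⟨e1, e2⟩ := hinj _ _ _ _ z.2.2 w.2.2 (mul_left_cancel e)
        exact Prod.ext rfl (Prod.ext e2 (Fin.ext e1))

/-- Eigenvalues in `K` cut down the units of the generated algebra. -/
lemma card_inAlg_roots [Finite F] (x : Mn) {P : K[X]} (hP : P ≠ 0) {k : ℕ} (hk : P.natDegree ≤ k)
    (h0 : aeval x P = 0) (S : Finset K) (hS : S.card ≤ k)
    (hroot : ∀ μ ∈ S, ∃ v : Fin n → F, v ≠ 0 ∧ x.mulVec v = algebraMap K F μ • v) :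
    Nat.card {v : GL (Fin n) F // InAlg K x v} ≤
      Fintype.card K ^ (k - S.card) * (Fintype.card K - 1) ^ S.card := by
  choose g hg using fun R => exists_coeffs hP hk h0 R
  have heval : ∀ μ ∈ S, ∀ (v : {v : GL (Fin n) F // InAlg K x v}),
      (polyOf (g v.2.choose)).eval μ ≠ 0 := by
    intro μ hμ v e
    obtain ⟨w, hw, hxw⟩ := hroot μ hμ
    have hpow : ∀ R : K[X], (aeval x R).mulVec w = algebraMap K F (R.eval μ) • w := by
      intro R
      induction R using Polynomial.induction_on' with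
      | add a b ha hb => rw [map_add, Matrix.add_mulVec, ha, hb, eval_add, map_add, add_smul]
      | monomial m a =>
        rw [aeval_monomial, eval_monomial, map_mul, map_pow]
        have hm : ∀ m : ℕ, (x ^ m).mulVec w = (algebraMap K F μ) ^ m • w := by
          intro m
          induction m with
          | zero => simp
          | succ m ih => rw [pow_succ', ← Matrix.mulVec_mulVec, ih, Matrix.mulVec_smul, hxw, smul_smul, pow_succ]
        rw [← Algebra.smul_def, Matrix.smul_mulVec, hm, ← algebraMap_smul F a, smul_smul]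
    have h1 := hpow (polyOf (g v.2.choose))
    rw [e, map_zero, zero_smul, hg, v.2.choose_spec] at h1
    exact hw (Matrix.mulVec_injective_iff_isUnit.2 v.1.isUnit (h1.trans (Matrix.mulVec_zero _).symm))
  have hc : Nat.card ((Fin (k - S.card) → K) × ({μ // μ ∈ S} → Kˣ)) =
      Fintype.card K ^ (k - S.card) * (Fintype.card K - 1) ^ S.card := by
    rw [Nat.card_prod, Nat.card_eq_fintype_card, Nat.card_eq_fintype_card, Fintype.card_fun, Fintype.card_fun,
      Fintype.card_fin, Fintype.card_units, Fintype.card_coe]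
  rw [← hc]
  refine Nat.card_le_card_of_injective
    (fun v => (fun i => g v.2.choose ⟨S.card + i, by omega⟩,
      fun μ => Units.mk0 _ (heval μ.1 μ.2 v))) fun v w e => ?_
  simp only [Prod.mk.injEq] at e
  have hp : polyOf (g v.2.choose) = polyOf (g w.2.choose) := by
    refine Polynomial.eq_of_degree_sub_lt_of_eval_finset_eq S ?_ fun μ hμ => ?_
    · rw [degree_lt_iff_coeff_zero]
      intro m hm
      rw [coeff_sub]
      by_cases hmk : m < k
      · have := congrFun e.1 ⟨m - S.card, by omega⟩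
        simp only [show S.card + (m - S.card) = m by omega] at this
        rw [coeff_polyOf _ ⟨m, hmk⟩, coeff_polyOf _ ⟨m, hmk⟩, this, sub_self]
      · rw [coeff_eq_zero_of_degree_lt ((natDegree_polyOf _).trans_le (WithBot.coe_le_coe.2 (not_lt.1 hmk))),
          coeff_eq_zero_of_degree_lt ((natDegree_polyOf _).trans_le (WithBot.coe_le_coe.2 (not_lt.1 hmk))), sub_self]
    · exact congrArg Units.val (congrFun e.2 ⟨μ, hμ⟩)
  have e' := congrArg (aeval x) hp
  rw [hg, hg, v.2.choose_spec, w.2.choose_spec] at e'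
  exact Subtype.ext (Units.ext e')

end Cfsg.Agent.MaxOrdPSL
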