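import Cfsg.Agent.Lib.AutPSL.Classes
import Cfsg.Agent.Lib.MaxOrdPSL.Arith
import Cfsg.Agent.Lib.MaxOrdPSL.Counting

/-!
The orders of the automorphisms of `PSL_n(q)` are at most `(q^n - 1)/(q - 1)`.
-/

set_option autoImplicit false
noncomputable section

namespace Cfsg.Agent.MaxOrdPSL

open Matrix Polynomial
open Cfsg.Agent.AutPSL
open scoped Classical

variable {F : Type*} [Field F] [Fintype F] {n : ℕ}

local notation "Mn" => Matrix (Fin n) (Fin n) F
local notation "PSLn" => Matrix.ProjectiveSpecialLinearGroup (Fin n) F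

omit [Fintype F] in
lemma semi_pow_one (g : GL (Fin n) F) (N : ℕ) :
    (semi g 1 : MulAut PSLn) ^ N = semi (g ^ N) 1 := by
  induction N with
  | zero => rw [pow_zero, pow_zero, semi_one]
  | succ N ih => rw [pow_succ, ih, semi_mul', mapGL_one, one_mul, pow_succ]

omit [Fintype F] in
lemma semi_pow_eq_one {K : Type*} [Field K] [Algebra K F] (hn : 2 ≤ n) {g : GL (Fin n) F} {N : ℕ} {c : K}
    (h : ((g ^ N : GL (Fin n) F) : Mn) = algebraMap K Mn c) : (semi g 1 : MulAut PSLn) ^ N = 1 := by
  haveI : Nonempty (Fin n) := ⟨⟨0, by omega⟩⟩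
  have hc : algebraMap K F c ≠ 0 := by
    intro e
    refine (g ^ N).ne_zero ?_
    rw [h, IsScalarTower.algebraMap_apply K F Mn, e, map_zero]
  rw [semi_pow_one, semi_eq_one_iff hn]
  refine ⟨rfl, Units.mk0 _ hc, Units.ext ?_⟩
  rw [h, IsScalarTower.algebraMap_apply K F Mn]
  rfl

/-- The fixed field of a field automorphism. -/
abbrev fixedK (σ : F ≃+* F) : Subfield F := FixedPoints.subfield ↥(Subgroup.zpowers σ) F

lemma card_fixedK (σ : F ≃+* F) : Fintype.card F = Nat.card (fixedK σ) ^ orderOf σ := by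
  haveI : Finite (F ≃+* F) := Finite.of_injective (fun e : F ≃+* F => (e : F → F)) DFunLike.coe_injective
  haveI : Fintype ↥(Subgroup.zpowers σ) := Fintype.ofFinite _
  haveI : FaithfulSMul ↥(Subgroup.zpowers σ) F := ⟨fun {a b} h => Subtype.ext (RingEquiv.ext h)⟩
  rw [← Nat.card_eq_fintype_card, Module.natCard_eq_pow_finrank (K := fixedK σ),
    FixedPoints.finrank_eq_card ↥(Subgroup.zpowers σ) F, ← Nat.card_eq_fintype_card, Nat.card_zpowers]

omit [Fintype F] in
lemma mem_fixedK {σ : F ≃+* F} {x : F} (h : σ x = x) : x ∈ fixedK σ := by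
  rintro ⟨τ, hτ⟩
  obtain ⟨i, rfl⟩ := hτ
  induction i using Int.induction_on with
  | zero => rfl
  | succ i ih =>
    show (σ ^ ((i : ℤ) + 1)) x = x
    rw [_root_.zpow_add_one, RingAut.mul_apply, h]
    exact ih
  | pred i ih =>
    show (σ ^ (-(i : ℤ) - 1)) x = x
    rw [_root_.zpow_sub_one, RingAut.mul_apply, show σ⁻¹ x = x from (RingEquiv.symm_apply_eq σ).2 h.symm]
    exact ih

omit [Fintype F] in
lemma twist_succ' (σ : F ≃+* F) (g : GL (Fin n) F) (k : ℕ) :
    twist σ g (k + 1) = twist σ g k * mapGL (σ ^ k) g := by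
  induction k with
  | zero => simp [twist, mapGL_one]
  | succ k ih =>
    rw [show twist σ g (k + 1 + 1) = g * mapGL σ (twist σ g (k + 1)) from rfl]
    conv_lhs => rw [ih, map_mul, ← mul_assoc, ← mapGL_mul, ← pow_succ']
    rfl

omit [Fintype F] in
lemma semilinear_pow_one (g : GL (Fin n) F) (σ : F ≃+* F) (N : ℕ) :
    (semi g σ : MulAut PSLn) ^ (orderOf σ * N) = semi (twist σ g (orderOf σ)) 1 ^ N := by
  rw [pow_mul, AutPSL.semi_pow, pow_orderOf_eq_one]

/-- The bound for semilinear automorphisms. -/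
theorem semilinear_bound (hn : 2 ≤ n) (g : GL (Fin n) F) (σ : F ≃+* F) :
    ∃ q₀ N, 2 ≤ q₀ ∧ Fintype.card F = q₀ ^ orderOf σ ∧ 0 < N ∧ N ≤ S q₀ n ∧
      (semi g σ : MulAut PSLn) ^ (orderOf σ * N) = 1 := by
  obtain ⟨t, ht⟩ : ∃ t, twist σ g (orderOf σ) = t := ⟨_, rfl⟩
  have hcomm : g * mapGL σ t = t * g := by
    rw [← ht]
    show twist σ g (orderOf σ + 1) = _
    rw [twist_succ', pow_orderOf_eq_one, mapGL_one]
  have hmap : ((t : Mn).charpoly).map σ.toRingHom = (t : Mn).charpoly := by
    have e : mapGL σ t = g⁻¹ * t * g := by rw [mul_assoc, ← hcomm, inv_mul_cancel_left]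
    rw [← Matrix.charpoly_map]
    show ((mapGL σ t : GL (Fin n) F) : Mn).charpoly = _
    rw [e, Units.val_mul, Units.val_mul, Matrix.coe_units_inv, Matrix.charpoly_units_conj']
  haveI : Finite (fixedK σ) := Finite.of_injective _ Subtype.val_injective
  haveI : Fintype (fixedK σ) := Fintype.ofFinite _
  obtain ⟨P, hP⟩ : ∃ P : (fixedK σ)[X], P.map (algebraMap (fixedK σ) F) = (t : Mn).charpoly := by
    rw [← Polynomial.mem_lifts, Polynomial.lifts_iff_coeff_lifts]
    intro i
    refine ⟨⟨(t : Mn).charpoly.coeff i, mem_fixedK ?_⟩, rfl⟩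
    conv_rhs => rw [← hmap, coeff_map]
    rfl
  have hP0 : P ≠ 0 := fun e => (Matrix.charpoly_monic (t : Mn)).ne_zero (by rw [← hP, e, Polynomial.map_zero])
  have hdeg : P.natDegree ≤ n := by
    rw [← natDegree_map (algebraMap (fixedK σ) F), hP, Matrix.charpoly_natDegree_eq_dim, Fintype.card_fin]
  have hae : aeval (t : Mn) P = 0 := by
    rw [← aeval_map_algebraMap F, hP, Matrix.aeval_self_charpoly]
  obtain ⟨N, hN, ⟨c, hc⟩, hle, -⟩ := exists_pow_scalar (K := fixedK σ) t (by omega)
  have hle' := hle.trans (card_inAlg_le (t : Mn) hP0 hdeg hae (by omega))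
  refine ⟨Nat.card (fixedK σ), N, ?_, card_fixedK σ, hN, ?_, ?_⟩
  · exact Finite.one_lt_card
  · rw [Nat.card_eq_fintype_card]
    exact le_S_of_mul Fintype.one_lt_card hle'
  · rw [semilinear_pow_one, ht]
    exact semi_pow_eq_one hn hc

/-- The bound for the square of a graph automorphism without field part. -/
theorem graph_bound (hn : 3 ≤ n) (h32 : ¬ (n = 3 ∧ Fintype.card F = 2)) (g : GL (Fin n) F) (σ : F ≃+* F)
    (hσ : σ * σ = 1) :
    ∃ N, 0 < N ∧ 2 * N ≤ S (Fintype.card F) n ∧
      (semi (g * mapGL σ (starGL g)) 1 : MulAut PSLn) ^ N = 1 := by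
  have hq : 2 ≤ Fintype.card F := Fintype.one_lt_card
  obtain ⟨h, hh⟩ : ∃ h, g * mapGL σ (starGL g) = h := ⟨_, rfl⟩
  rw [hh]
  obtain ⟨N, hN, ⟨c, hc⟩, hle, hstrict⟩ := exists_pow_scalar (K := F) h (by omega)
  have hpow := semi_pow_eq_one (show 2 ≤ n by omega) hc
  have hP0 : (h : Mn).charpoly ≠ 0 := (Matrix.charpoly_monic (h : Mn)).ne_zero
  have hdeg : (h : Mn).charpoly.natDegree ≤ n := by rw [Matrix.charpoly_natDegree_eq_dim, Fintype.card_fin]
  have hae : aeval (h : Mn) (h : Mn).charpoly = 0 := Matrix.aeval_self_charpoly _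
  by_cases hquad : ∃ R : F[X], R ≠ 0 ∧ R.natDegree ≤ 2 ∧ aeval (h : Mn) R = 0
  · obtain ⟨R, hR, hR2, hR0⟩ := hquad
    refine ⟨N, hN, le_trans ?_ (quad_ineq hq hn), hpow⟩
    have := le_S_of_mul hq (hle.trans (card_inAlg_le (h : Mn) hR hR2 hR0 (by omega)))
    simp [S, Finset.sum_range_succ] at this
    omega
  by_cases hlam : ∃ l : F, l ≠ 0 ∧ ((h : Mn) + algebraMap F Mn l).det ≠ 0
  · obtain ⟨l, hl, hdet⟩ := hlam
    refine ⟨N, hN, le_S_of_mul hq ?_, hpow⟩
    obtain ⟨v₀, hv₀⟩ : IsUnit ((h : Mn) + algebraMap F Mn l) := (Matrix.isUnit_iff_isUnit_det _).2 hdet.isUnit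
    have hout : ∀ (i : ℕ) (μ : F), (v₀ : Mn) ≠ algebraMap F Mn μ * (h : Mn) ^ i := by
      intro i μ e
      rw [hv₀, ← Algebra.smul_def, Algebra.algebraMap_eq_smul_one] at e
      -- the semilinear anti-automorphism fixing the relation
      let Θ : Mn → Mn := fun X => (g : Mn) * (X.map σ)ᵀ * ((g⁻¹ : GL (Fin n) F) : Mn)
      have hΘadd : ∀ X Y, Θ (X + Y) = Θ X + Θ Y := fun X Y => by
        simp only [Θ, Matrix.map_add _ (map_add σ), Matrix.transpose_add, mul_add, add_mul]
      have hΘsmul : ∀ (a : F) X, Θ (a • X) = σ a • Θ X := fun a X => by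
        have e0 : (a • X).map σ = σ a • X.map σ := by ext u v; simp
        simp only [Θ, e0, Matrix.transpose_smul, mul_smul_comm, smul_mul_assoc]
      have hΘone : Θ 1 = 1 := by
        simp only [Θ, Matrix.map_one _ (map_zero σ) (map_one σ), Matrix.transpose_one, mul_one, Units.mul_inv]
      have hΘh : Θ (h : Mn) = ((h⁻¹ : GL (Fin n) F) : Mn) := by
        have e1 : ((h⁻¹ : GL (Fin n) F) : Mn) = ((g : Mn).map σ)ᵀ * ((g⁻¹ : GL (Fin n) F) : Mn) := by
          rw [← hh, _root_.mul_inv_rev, ← map_inv, Units.val_mul, mapGL_coe, starGL_inv_coe, Matrix.transpose_map]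
        rw [e1]
        show (g : Mn) * ((h : Mn).map σ)ᵀ * _ = _
        rw [← hh, Units.val_mul, Matrix.map_mul, mapGL_coe, starGL_coe, Matrix.map_map,
          show ⇑σ ∘ ⇑σ = id from funext fun x => RingEquiv.congr_fun hσ x, Matrix.map_id, Matrix.transpose_mul,
          Matrix.transpose_transpose, ← mul_assoc, Units.mul_inv, one_mul]
      have hΘpow : ∀ j : ℕ, Θ ((h : Mn) ^ j) = ((h⁻¹ : GL (Fin n) F) : Mn) ^ j := by
        intro j
        induction j with
        | zero => rw [pow_zero, pow_zero, hΘone]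
        | succ j ih =>
          rw [pow_succ, show Θ ((h : Mn) ^ j * (h : Mn)) = Θ (h : Mn) * Θ ((h : Mn) ^ j) by
            simp only [Θ, Matrix.map_mul, Matrix.transpose_mul, mul_assoc, Units.inv_mul_cancel_left],
            ih, hΘh, ← pow_succ']
      have e' := congrArg Θ e
      rw [hΘadd, hΘsmul, hΘsmul, hΘone, hΘpow, hΘh] at e'
      obtain ⟨A, hA⟩ : ∃ A, (h : Mn) = A := ⟨_, rfl⟩
      obtain ⟨B, hB⟩ : ∃ B, ((h⁻¹ : GL (Fin n) F) : Mn) = B := ⟨_, rfl⟩
      have hBA : B * A = 1 := by rw [← hA, ← hB, Units.inv_mul]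
      have hAB : A * B = 1 := by rw [← hA, ← hB, Units.mul_inv]
      rw [hA] at e hquad
      rw [hB] at e'
      have hii : A ^ i * B ^ i = 1 := by
        rw [← (show Commute A B from hAB.trans hBA.symm).mul_pow, hAB, one_pow]
      have key : (A + l • (1 : Mn)) * (B + σ l • (1 : Mn)) * A = (μ * σ μ) • A := by
        rw [e, e', smul_mul_smul_comm, hii, smul_mul_assoc, one_mul]
      refine hquad ⟨C (σ l) * Polynomial.X ^ 2 + C (1 + l * σ l - μ * σ μ) * Polynomial.X + C l, ?_, ?_, ?_⟩
      · intro e0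
        have := congrArg (fun R : F[X] => R.coeff 2) e0
        simp [coeff_C, Polynomial.coeff_one, hl] at this
      · compute_degree
      · have : (A + l • (1 : Mn)) * (B + σ l • (1 : Mn)) * A =
            σ l • A ^ 2 + (1 + l * σ l) • A + l • (1 : Mn) := by
          simp only [mul_add, add_mul, smul_add, smul_mul_assoc, mul_smul_comm, hAB, hBA, one_mul, mul_one, smul_smul,
            add_smul, one_smul, pow_two, mul_comm (σ l) l]
          abel
        rw [this] at key
        simp only [map_add, map_mul, aeval_C, map_pow, Polynomial.aeval_X, Algebra.algebraMap_eq_smul_one, sub_smul,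
          sub_mul, smul_mul_assoc, one_mul]
        rw [← sub_eq_zero.2 key]
        abel
    have := (hstrict v₀ ⟨Polynomial.X + C l, by simp [hv₀]⟩ hout).trans (card_inAlg_le (h : Mn) hP0 hdeg hae (by omega))
    calc (Fintype.card F - 1) * (2 * N) = 2 * ((Fintype.card F - 1) * N) := by ring
      _ ≤ _ := this
  · push Not at hlam
    have hroot : ∀ μ ∈ (Finset.univ.erase (0 : F)), ∃ v : Fin n → F, v ≠ 0 ∧
        (h : Mn).mulVec v = algebraMap F F μ • v := by
      intro μ hμ
      obtain ⟨v, hv, hv'⟩ := Matrix.exists_mulVec_eq_zero_iff.2 (hlam (-μ) (neg_ne_zero.2 (Finset.ne_of_mem_erase hμ)))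
      refine ⟨v, hv, ?_⟩
      rw [Algebra.algebraMap_eq_smul_one, Matrix.add_mulVec, Matrix.smul_mulVec, Matrix.one_mulVec] at hv'
      simpa [add_eq_zero_iff_eq_neg] using hv'
    have hcardS : (Finset.univ.erase (0 : F)).card = Fintype.card F - 1 := by
      rw [Finset.card_erase_of_mem (Finset.mem_univ _), Finset.card_univ]
    have hk : Fintype.card F - 1 ≤ n := by
      rw [← hcardS]
      refine le_trans ?_ ((Polynomial.card_roots' (h : Mn).charpoly).trans hdeg)
      refine le_trans (Finset.card_le_card fun μ hμ => ?_) (Multiset.toFinset_card_le _)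
      rw [Multiset.mem_toFinset, mem_roots hP0, IsRoot, Matrix.eval_charpoly]
      have := hlam (-μ) (neg_ne_zero.2 (Finset.ne_of_mem_erase hμ))
      rw [show Matrix.scalar (Fin n) μ - (h : Mn) = -((h : Mn) + algebraMap F Mn (-μ)) by
        rw [map_neg, neg_add_rev, neg_neg, ← sub_eq_add_neg]; rfl, Matrix.det_neg, this, mul_zero]
    rcases Nat.lt_or_ge (Fintype.card F) 3 with hq2 | hq3
    · -- the field with two elements
      have hF2 : Fintype.card F = 2 := by omega
      have hn4 : 4 ≤ n := by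
        by_contra hlt
        exact h32 ⟨by omega, hF2⟩
      haveI : CharP F 2 := by
        obtain ⟨p, hp⟩ := CharP.exists F
        obtain ⟨f, hpp, hcard⟩ := FiniteField.card F p
        have : p ∣ 2 := by rw [← hF2, hcard]; exact dvd_pow_self p f.pos.ne'
        rwa [← (Nat.prime_dvd_prime_iff_eq hpp Nat.prime_two).1 this]
      have hall : ∀ x : F, x ≠ 0 → x = 1 := by
        intro x hx
        have := FiniteField.pow_card_sub_one_eq_one x hx
        rwa [hF2, pow_one] at this
      have hNle : N ≤ 2 ^ (n - 1) := by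
        have := hle.trans (card_inAlg_roots (h : Mn) hP0 hdeg hae _ (by rw [hcardS]; exact hk) hroot)
        rw [hcardS, hF2] at this
        simpa using this
      rcases hNle.lt_or_eq with hlt | heq
      · refine ⟨N, hN, ?_, hpow⟩
        refine le_S_of_mul hq ?_
        rw [hF2, show (2 : ℕ) - 1 = 1 from rfl, one_mul]
        have : 2 ^ n = 2 * 2 ^ (n - 1) := by rw [← pow_succ', Nat.sub_add_cancel (by omega)]
        omega
      · haveI : Nonempty (Fin n) := ⟨⟨0, by omega⟩⟩
        haveI : Fact (Nat.Prime 2) := ⟨Nat.prime_two⟩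
        have hc1 : c = 1 := hall c fun e => (h ^ N).ne_zero (by rw [hc, e, map_zero])
        have hnil : IsNilpotent ((h : Mn) - 1) := ⟨2 ^ (n - 1), by
          rw [sub_pow_char_pow_of_commute 2 (n - 1) (Commute.one_right _), one_pow, ← heq, ← Units.val_pow_eq_pow_val,
            hc, hc1, map_one, sub_self]⟩
        have hzero : ((h : Mn) - 1) ^ n = 0 := by
          have e := (Matrix.isNilpotent_charpoly_sub_pow_of_isNilpotent hnil).eq_zero
          rw [sub_eq_zero, Fintype.card_fin] at e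
          have e' := Matrix.aeval_self_charpoly ((h : Mn) - 1)
          rwa [e, map_pow, aeval_X] at e'
        have hle2 : ∀ m, 4 ≤ m → m ≤ 2 ^ (m - 2) := by
          intro m hm
          induction m, hm using Nat.le_induction with
          | base => norm_num
          | succ m hm ih =>
            rw [show m + 1 - 2 = m - 2 + 1 by omega, pow_succ]
            omega
        have e2 := pow_eq_zero_of_le (hle2 n hn4) hzero
        rw [sub_pow_char_pow_of_commute 2 (n - 2) (Commute.one_right _), one_pow, sub_eq_zero] at e2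
        refine ⟨2 ^ (n - 2), by positivity, le_S_of_mul hq ?_, semi_pow_eq_one (K := F) (c := 1) (by omega)
          (by rw [Units.val_pow_eq_pow_val, e2, map_one])⟩
        rw [hF2, show (2 : ℕ) - 1 = 1 from rfl, one_mul, ← pow_succ', show n - 2 + 1 = n - 1 by omega]
        have : 2 ^ n = 2 * 2 ^ (n - 1) := by rw [← pow_succ', Nat.sub_add_cancel (by omega)]
        have : 1 ≤ 2 ^ (n - 1) := Nat.one_le_two_pow
        omega
    · refine ⟨N, hN, ?_, hpow⟩
      have h1 := hle.trans (card_inAlg_roots (h : Mn) hP0 hdeg hae _ (by rw [hcardS]; exact hk) hroot)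
      rw [hcardS] at h1
      have e : (Fintype.card F - 1) ^ (Fintype.card F - 1) =
          (Fintype.card F - 1) * (Fintype.card F - 1) ^ (Fintype.card F - 2) := by
        rw [← pow_succ', show Fintype.card F - 2 + 1 = Fintype.card F - 1 by omega]
      rw [e, mul_left_comm] at h1
      have h2 := Nat.le_of_mul_le_mul_left h1 (by omega)
      exact (Nat.mul_le_mul_left 2 h2).trans (roots_bound hq3 (by omega) hk)

/-- All automorphisms. -/
theorem bound (hn : 2 ≤ n) (h24 : n = 2 → Fintype.card F ≠ 4) (h32 : ¬ (n = 3 ∧ Fintype.card F = 2))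
    (φ : MulAut PSLn) : orderOf φ ≤ S (Fintype.card F) n := by
  haveI : Finite (F ≃+* F) := Finite.of_injective (fun e : F ≃+* F => (e : F → F)) DFunLike.coe_injective
  have hle : ∀ M, 0 < M → φ ^ M = 1 → orderOf φ ≤ M := fun M hM hp => orderOf_le_of_pow_eq_one hM hp
  obtain ⟨g, σ, hφ | ⟨hn3, hφ⟩⟩ := aut_eq hn φ
  · obtain ⟨q₀, N, hq₀, hq, hN, hNS, hp⟩ := semilinear_bound hn g σ
    have he := orderOf_pos σ
    refine (hle _ (Nat.mul_pos he hN) (by rw [hφ, hp])).trans ?_
    refine (Nat.mul_le_mul_left _ hNS).trans ?_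
    rw [hq]
    exact semilinear_ineq hq₀ he hn (hq ▸ h24)
  · rw [invT_mul_semi] at hφ
    have hsq : φ ^ 2 = semi (starGL g * mapGL σ (starGL (starGL g))) (σ * σ) := by rw [hφ, semi_mul_invT_sq]
    by_cases hττ : σ * σ = 1
    · obtain ⟨N, hN, hNS, hp⟩ := graph_bound hn3 h32 (starGL g) σ hττ
      refine (hle (2 * N) (by omega) ?_).trans hNS
      rw [pow_mul, hsq, hττ, hp]
    · obtain ⟨q₀, N, hq₀, hq, hN, hNS, hp⟩ := semilinear_bound hn (starGL g * mapGL σ (starGL (starGL g))) (σ * σ)
      have he : 2 ≤ orderOf (σ * σ) := by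
        have := orderOf_pos (σ * σ)
        have : orderOf (σ * σ) ≠ 1 := fun e => hττ (orderOf_eq_one_iff.1 e)
        omega
      refine (hle (2 * (orderOf (σ * σ) * N)) (Nat.mul_pos two_pos (Nat.mul_pos (by omega) hN))
        (by rw [pow_mul, hsq, hp])).trans ?_
      rw [← mul_assoc]
      refine (Nat.mul_le_mul_left _ hNS).trans ?_
      rw [hq]
      refine graph_ineq hq₀ he hn3 fun e2 e => ?_
      subst e
      -- `σ` would have order four on a field with four elements
      have h4 : Fintype.card F = 4 := by rw [hq, e2]; norm_num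
      have hs : 4 ∣ orderOf σ := by
        have h := orderOf_pow (n := 2) σ
        rw [pow_two, e2] at h
        rcases Nat.even_or_odd (orderOf σ) with ⟨r, hr⟩ | hodd
        · rw [Nat.gcd_eq_right ⟨r, by omega⟩] at h
          omega
        · rw [Nat.coprime_iff_gcd_eq_one.1 (Nat.coprime_two_right.2 hodd), Nat.div_one] at h
          rw [← h] at hodd
          exact absurd hodd (by decide)
      have h5 := card_fixedK σ
      have h6 : 2 ≤ Nat.card (fixedK σ) := by
        haveI : Finite (fixedK σ) := Finite.of_injective _ Subtype.val_injective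
        exact Finite.one_lt_card
      have h7 : 2 ^ 4 ≤ Nat.card (fixedK σ) ^ orderOf σ :=
        (Nat.pow_le_pow_left h6 4).trans (Nat.pow_le_pow_right (by omega) (Nat.le_of_dvd (orderOf_pos σ) hs))
      omega

end Cfsg.Agent.MaxOrdPSL
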