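import Cfsg.Agent.Lib.MaxOrdPSL.Bound

/-!
A Singer cycle gives an automorphism of `PSL_n(q)` of order `(q^n - 1)/(q - 1)`.
-/

set_option autoImplicit false
noncomputable section

namespace Cfsg.Agent.MaxOrdPSL

open Cfsg.Agent.AutPSL
open scoped Classical

variable {F : Type*} [Field F] [Fintype F] {n : ℕ}

local notation "PSLn" => Matrix.ProjectiveSpecialLinearGroup (Fin n) F

theorem exists_singer (hn : 2 ≤ n) :
    ∃ φ : MulAut PSLn, S (Fintype.card F) n ≤ orderOf φ := by
  obtain ⟨p, hp⟩ := CharP.exists F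
  haveI : Fact p.Prime := ⟨CharP.char_is_prime F p⟩
  haveI : NeZero n := ⟨by omega⟩
  let L := FiniteField.Extension F p n
  let b : Module.Basis (Fin n) F L :=
    (Module.finBasis F L).reindex (finCongr (FiniteField.finrank_extension F p n))
  haveI : Fintype L := Fintype.ofFinite L
  obtain ⟨w, hw⟩ := IsCyclic.exists_ofOrder_eq_natCard (α := Lˣ)
  have hcard : Nat.card Lˣ = Fintype.card F ^ n - 1 := by
    rw [Nat.card_units, FiniteField.natCard_extension, Nat.card_eq_fintype_card]
  let g : GL (Fin n) F := Units.map (Algebra.leftMulMatrix b).toRingHom.toMonoidHom w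
  refine ⟨semi g 1, ?_⟩
  haveI : Finite (MulAut PSLn) := Finite.of_injective _ DFunLike.coe_injective
  have h1 := pow_orderOf_eq_one (semi g 1 : MulAut PSLn)
  rw [semi_pow_one, semi_eq_one_iff hn] at h1
  obtain ⟨-, c, hc⟩ := h1
  set o := orderOf (semi g 1 : MulAut PSLn) with ho
  have hw1 : ((w : L)) ^ o = algebraMap F L (c : F) := by
    apply Algebra.leftMulMatrix_injective b
    rw [map_pow, AlgHom.commutes]
    have := congrArg Units.val hc
    rw [Units.val_pow_eq_pow_val] at this
    exact this
  have hw2 : w ^ (o * (Fintype.card F - 1)) = 1 := Units.ext (by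
    rw [Units.val_pow_eq_pow_val, pow_mul, hw1, ← map_pow, FiniteField.pow_card_sub_one_eq_one _ c.ne_zero,
      map_one, Units.val_one])
  have hd := orderOf_dvd_of_pow_eq_one hw2
  rw [hw, hcard, ← S_mul (Fintype.card F) n Fintype.card_pos, mul_comm o] at hd
  have hop : 0 < o := by rw [ho]; exact orderOf_pos _
  exact Nat.le_of_dvd hop (Nat.dvd_of_mul_dvd_mul_left (by have := Fintype.one_lt_card (α := F); omega) hd)

end Cfsg.Agent.MaxOrdPSL
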